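import Cfsg.Agent.Lib.BrauerTuan.Two
import Cfsg.Agent.Lib.KGV.GaloisMean

/-!
# The exceptional character does not vanish on elements of two-power order
-/

set_option autoImplicit false

namespace CfsgLib.BrauerTuan

open Cfsg CfsgLib.DefectOne CfsgLib.BrauerRey
open scoped ComplexConjugate Classical

universe u

variable {G : Type u} [Group G] [Finite G] {p q b g₀ : ℕ} [Fact p.Prime] {z y : G} {e t n : ℕ}

/-- A class function summed over the `p`-singular elements. -/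
theorem sum_singular [Fintype G] (h : Num p z y e t n) (F : G → ℝ)
    (hF : ∀ c g : G, F (c * g * c⁻¹) = F g) :
    ∑ g ∈ Finset.univ.filter (fun g : G => p ∣ orderOf g), F g =
      ((1 + n * p : ℕ) : ℝ) * ∑ r : (ZMod p)ˣ, F (z ^ (r : ZMod p).val) := by
  haveI := Fintype.ofFinite (Sylow p G)
  have hH := h.ctx.hyp
  obtain ⟨P₀, hP₀⟩ := h.ctx.exists_sylow
  choose c hc using fun Q : Sylow p G => MulAction.exists_smul_eq G P₀ Q
  let Φ : Sylow p G × (ZMod p)ˣ → G := fun a => c a.1 * z ^ (a.2 : ZMod p).val * (c a.1)⁻¹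
  have hval : ∀ r : (ZMod p)ˣ, ¬ p ∣ (r : ZMod p).val := fun r hdv =>
    r.ne_zero ((ZMod.val_eq_zero _).1 (Nat.eq_zero_of_dvd_of_lt hdv (ZMod.val_lt _)))
  have hord : ∀ a, orderOf (Φ a) = p := fun a => by
    rw [show orderOf (Φ a) = orderOf (z ^ (a.2 : ZMod p).val) from
      orderOf_injective (MulAut.conj (c a.1)).toMonoidHom (MulAut.conj (c a.1)).injective _,
      hH.orderOf_pow (hval a.2)]
  have hQ : ∀ a, (a.1 : Subgroup G) = Subgroup.zpowers (Φ a) := fun a => by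
    refine (Subgroup.eq_of_le_of_card_ge (Subgroup.zpowers_le.2 ?_) ?_).symm
    · have h1 : ((c a.1 • P₀ : Sylow p G) : Subgroup G) = (a.1 : Subgroup G) := by rw [hc]
      rw [← h1, Sylow.coe_subgroup_smul, hP₀]
      exact ⟨z ^ (a.2 : ZMod p).val, Subgroup.npow_mem_zpowers z _, rfl⟩
    · rw [Nat.card_zpowers, hord, (a.1).card_eq_multiplicity, hH.factorization_eq_one, pow_one]
  have hinj : Function.Injective Φ := by
    rintro ⟨Q, r⟩ ⟨Q', r'⟩ he
    have h1 : Q = Q' := Sylow.ext ((hQ ⟨Q, r⟩).trans (by rw [he, ← hQ ⟨Q', r'⟩]))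
    subst h1
    have h2 : z ^ (r : ZMod p).val = z ^ (r' : ZMod p).val :=
      mul_left_cancel (mul_right_cancel he)
    have h3 := hH.pow_eq_pow_iff.1 h2
    rw [Nat.mod_eq_of_lt (ZMod.val_lt _), Nat.mod_eq_of_lt (ZMod.val_lt _)] at h3
    exact Prod.ext rfl (Units.ext (ZMod.val_injective p h3))
  have himg : Finset.univ.image Φ = Finset.univ.filter (fun g : G => p ∣ orderOf g) := by
    ext g
    simp only [Finset.mem_image, Finset.mem_univ, true_and, Finset.mem_filter]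
    refine ⟨fun ⟨a, ha⟩ => by rw [← ha, hord], fun hg => ?_⟩
    obtain ⟨d, i, hi, hd⟩ := h.ctx.exists_pow_of_dvd hg
    have hmem : g ∈ ((d⁻¹ • P₀ : Sylow p G) : Subgroup G) := by
      rw [Sylow.coe_subgroup_smul, hP₀]
      refine ⟨z ^ i, Subgroup.npow_mem_zpowers z i, ?_⟩
      show d⁻¹ * z ^ i * d⁻¹⁻¹ = g
      rw [← hd]; group
    rw [← hc (d⁻¹ • P₀), Sylow.coe_subgroup_smul, hP₀] at hmem
    obtain ⟨x, hx, hxg⟩ := hmem
    obtain ⟨j, -, rfl⟩ := hH.mem_zpowers_iff_pow.1 hx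
    have hjp : ¬ p ∣ j := fun hdv => by
      have hg1 : g = 1 := by
        rw [← hxg]
        show c (d⁻¹ • P₀) * z ^ j * (c (d⁻¹ • P₀))⁻¹ = 1
        rw [hH.pow_eq_one_iff.2 hdv, mul_one, mul_inv_cancel]
      rw [hg1, orderOf_one] at hg
      exact h.ctx.prime.one_lt.ne' (Nat.dvd_one.1 hg)
    refine ⟨⟨d⁻¹ • P₀, ZMod.unitOfCoprime j ((h.ctx.prime.coprime_iff_not_dvd.2 hjp).symm)⟩, ?_⟩
    rw [← hxg]
    show c (d⁻¹ • P₀) * z ^ _ * (c (d⁻¹ • P₀))⁻¹ = c (d⁻¹ • P₀) * z ^ j * (c (d⁻¹ • P₀))⁻¹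
    rw [ZMod.coe_unitOfCoprime, ZMod.val_natCast, hH.pow_eq_pow_iff.2 (Nat.mod_mod _ _)]
  rw [← himg, Finset.sum_image fun a _ b _ hab => hinj hab, Fintype.sum_prod_type]
  simp only [Φ, hF, Finset.sum_const, Finset.card_univ, nsmul_eq_mul]
  rw [← h.card_sylow, Nat.card_eq_fintype_card]

/-- The squares of an exceptional character over the powers of `z`. -/
theorem sum_theta_sq (h : Num p z y e t n) {X Y : Finset (IrrCharacter G)}
    {σ : IrrCharacter G → ℤ} {δ : ℤ} {f₀ : ℕ} (B : Blk p z e t X Y σ δ f₀)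
    {θ : IrrCharacter G} (hθ : θ ∈ Y) :
    ∑ r : (ZMod p)ˣ, (θ : G → ℂ) (z ^ (r : ZMod p).val) * conj ((θ : G → ℂ) (z ^ (r : ZMod p).val))
      = (e : ℂ) * ((p : ℂ) - e) := by
  have hH := h.ctx.hyp
  have hval : ∀ r : (ZMod p)ˣ, ¬ p ∣ (r : ZMod p).val := fun r hdv =>
    r.ne_zero ((ZMod.val_eq_zero _).1 (Nat.eq_zero_of_dvd_of_lt hdv (ZMod.val_lt _)))
  set S : IrrCharacter G → ℂ := fun χ =>
    ∑ r : (ZMod p)ˣ, (χ : G → ℂ) (z ^ (r : ZMod p).val) * conj ((χ : G → ℂ) (z ^ (r : ZMod p).val))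
  show S θ = _
  have h1 : ∀ θ' ∈ Y, S θ' = S θ := fun θ' hθ' => by
    obtain ⟨k, hk⟩ := B.perm θ hθ θ' hθ'
    simp only [S, hk]
    exact Fintype.sum_equiv (Equiv.mulRight k) _ _ fun r => rfl
  have h2 : ∀ r : (ZMod p)ˣ, ∑ θ' ∈ Y, (θ' : G → ℂ) (z ^ (r : ZMod p).val) *
      conj ((θ' : G → ℂ) (z ^ (r : ZMod p).val)) = (p : ℂ) - e := by
    intro r
    have h3 := CfsgLib.Char.sum_mul_conj (z ^ (r : ZMod p).val) (z ^ (r : ZMod p).val)
    rw [if_pos (IsConj.refl _), B.column h (hval r)] at h3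
    have h4 : Subgroup.centralizer ({z ^ (r : ZMod p).val} : Set G) = cent z := by
      ext g
      rw [mem_cent_iff, Subgroup.mem_centralizer_singleton_iff]
      exact ⟨fun hg => hH.commute_of_commute_pow (hval r) hg,
        fun hg => (Commute.pow_right hg _).eq⟩
    rw [h4, h.ctx.cent_card, Finset.sum_congr rfl (g := fun _ => (1 : ℂ)) (fun χ hχ => by
      rw [B.val_X χ hχ _ (hval r)]
      rcases B.sign χ hχ with e1 | e1 <;> rw [e1] <;> simp), Finset.sum_const,
      B.card_X, nsmul_eq_mul, mul_one] at h3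
    linear_combination h3
  have h6 : ∑ θ' ∈ Y, S θ' = (((p - 1 : ℕ) : ℂ)) * ((p : ℂ) - e) := by
    simp only [S]
    rw [Finset.sum_comm, Finset.sum_congr rfl fun r _ => h2 r, Finset.sum_const,
      Finset.card_univ, ZMod.card_units, nsmul_eq_mul]
  rw [Finset.sum_congr rfl h1, Finset.sum_const, B.card_Y, nsmul_eq_mul,
    show p - 1 = e * t by have := h.het; omega, Nat.cast_mul] at h6
  exact mul_left_cancel₀ (Nat.cast_ne_zero.2 (show t ≠ 0 by have := h.ht; omega))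
    (by linear_combination h6)

variable {X Y : Finset (IrrCharacter G)} {σ : IrrCharacter G → ℤ} {δ : ℤ} {f₀ : ℕ}

namespace Tuan

variable (T : Tuan p q b g₀ z y e t n X Y σ δ f₀)

include T

/-- Many elements are neither `p`-singular nor of two-power order. -/
theorem two_count [Fintype G] (hδ : δ = -1) :
    Nat.card G * p ≤ Nat.card G * (e + t) + p * (Finset.univ.filter
      (fun g : G => ¬ p ∣ orderOf g ∧ ∀ k : ℕ, orderOf g ≠ 2 ^ k)).card := by
  obtain ⟨-, -, hfe, hodd, -, -, -, -⟩ := T.minus_facts hδ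
  obtain ⟨θ, hθ, hθd, -⟩ := T.exists_theta
  have hp := T.num.ctx.prime
  set A := Finset.univ.filter (fun g : G => p ∣ orderOf g) with hA
  set T₂ := Finset.univ.filter (fun g : G => ∃ k : ℕ, orderOf g = 2 ^ k) with hT₂
  set O := Finset.univ.filter (fun g : G => ¬ p ∣ orderOf g ∧ ∀ k : ℕ, orderOf g ≠ 2 ^ k) with hO
  have hchar := CfsgLib.Char.IsIrrCharacter.isCharacter θ.2
  have hdisj : Disjoint A T₂ := by
    rw [Finset.disjoint_filter]
    rintro g - hpg ⟨k, hk⟩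
    rw [hk] at hpg
    have := Nat.le_of_dvd two_pos (hp.dvd_of_dvd_pow hpg)
    have := T.num.p_odd
    omega
  -- the lower bound on the two-elements
  have hlow : (T₂.card : ℝ) ≤ ∑ g ∈ T₂, ‖(θ : G → ℂ) g‖ ^ 2 := by
    have h1 : T₂.filter (fun g => (θ : G → ℂ) g ≠ 0) = T₂ := Finset.filter_eq_self.2 fun g hg => by
      obtain ⟨k, hk⟩ := (Finset.mem_filter.1 hg).2
      exact apply_ne_zero_of_odd θ (hθd ▸ hodd) hk
    have h2 := CfsgLib.KGV.card_filter_le_sum_norm T₂ (fun g hg m hm => by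
      obtain ⟨k, hk⟩ := (Finset.mem_filter.1 hg).2
      refine Finset.mem_filter.2 ⟨Finset.mem_univ _, k, ?_⟩
      rw [Nat.Coprime.orderOf_pow, hk]
      exact Nat.Coprime.coprime_dvd_left (orderOf_dvd_natCard g) hm.symm) hchar 2 (Or.inr rfl)
    rwa [h1] at h2
  have hsum := sum_singular T.num (fun g => ‖(θ : G → ℂ) g‖ ^ 2) fun c g => by
    rw [CfsgLib.Char.IsIrrCharacter.isClassFunction θ.2 g c]
  have hsq : ∑ r : (ZMod p)ˣ, ‖(θ : G → ℂ) (z ^ (r : ZMod p).val)‖ ^ 2 = (e : ℝ) * f₀ := by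
    apply Complex.ofReal_injective
    push_cast
    rw [Finset.sum_congr rfl fun r _ => (Complex.mul_conj' _).symm, sum_theta_sq T.num T.blk hθ,
      show (p : ℂ) = (f₀ : ℂ) + e by rw [← Nat.cast_add, hfe]]
    ring
  rw [hsq] at hsum
  have hcardA : (A.card : ℝ) = ((1 + n * p : ℕ) : ℝ) * (e * t : ℕ) := by
    have h1 := sum_singular T.num (fun _ => (1 : ℝ)) fun _ _ => rfl
    rw [Finset.sum_const, Finset.sum_const, Finset.card_univ, ZMod.card_units, nsmul_eq_mul,
      nsmul_eq_mul, mul_one, mul_one, show p - 1 = e * t by have := T.num.het; omega] at h1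
    exact h1
  have hall := CfsgLib.KGV.sum_norm_sq (G := G) θ.2
  have hle : ∑ g ∈ A ∪ T₂, ‖(θ : G → ℂ) g‖ ^ 2 ≤ (Nat.card G : ℝ) := by
    rw [← hall]
    exact Finset.sum_le_sum_of_subset_of_nonneg (Finset.subset_univ _) fun g _ _ => by positivity
  rw [Finset.sum_union hdisj, hsum] at hle
  have hcov : Nat.card G ≤ A.card + T₂.card + O.card := by
    rw [Nat.card_eq_fintype_card, ← Finset.card_univ, ← Finset.card_union_of_disjoint hdisj]
    refine le_trans (Finset.card_le_card fun g _ => ?_) (Finset.card_union_le _ _)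
    simp only [Finset.mem_union, hA, hT₂, hO, Finset.mem_filter, Finset.mem_univ, true_and]
    tauto
  have hcov' : (Nat.card G : ℝ) ≤ A.card + T₂.card + O.card := by exact_mod_cast hcov
  have hG : (Nat.card G : ℝ) = p * (e * ((1 + n * p : ℕ) : ℝ)) := by
    rw [T.num.card_eq]; push_cast; ring
  suffices (Nat.card G : ℝ) * p ≤ Nat.card G * (e + t) + p * O.card by exact_mod_cast this
  have hkey : ((1 + n * p : ℕ) : ℝ) * (e * f₀) ≤ ((1 + n * p : ℕ) : ℝ) * (e * t) + O.card := by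
    push_cast at hcardA hle ⊢
    linarith
  have hfe' : (f₀ : ℝ) + e = p := by exact_mod_cast hfe
  have h3 := mul_le_mul_of_nonneg_left hkey (Nat.cast_nonneg' p : (0 : ℝ) ≤ p)
  rw [hG]
  nlinarith [h3, hfe']

end Tuan

/-- At most half of the elements are `r`-singular when the Sylow `r`-subgroups have order `r`. -/
theorem card_singular_le [Fintype G] {r : ℕ} [Fact r.Prime] {x : G} (hx : HypOne r x)
    (hperf : commutator G = ⊤) :
    2 * (Finset.univ.filter (fun g : G => r ∣ orderOf g)).card ≤ Nat.card G := by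
  have hr := hx.prime
  set N := norm₁ x
  have hconjC : ∀ m ∈ N, ∀ a ∈ cent x, m * a * m⁻¹ ∈ cent x := by
    intro m hm a ha
    have h1 : m⁻¹ * x * m⁻¹⁻¹ ∈ Subgroup.zpowers x :=
      (Subgroup.mem_normalizer_iff.1 (inv_mem hm) x).1 (Subgroup.mem_zpowers x)
    obtain ⟨i, hi⟩ := Subgroup.mem_zpowers_iff.1 h1
    rw [mem_cent_iff] at ha ⊢
    have h2 : Commute a (m⁻¹ * x * m⁻¹⁻¹) := hi ▸ ha.zpow_right i
    have h3 := h2.map (MulAut.conj m).toMonoidHom
    simpa [mul_assoc] using h3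
  let Φ : (G ⧸ N) × cent x → G := fun a => a.1.out * (a.2 : G) * a.1.out⁻¹
  have hsub : (Finset.univ.filter (fun g : G => r ∣ orderOf g)) ⊆ Finset.univ.image Φ := by
    intro g hg
    have hgr : r ∣ orderOf g := (Finset.mem_filter.1 hg).2
    set w := g ^ (orderOf g / r)
    have hw : orderOf w = r := by
      rw [orderOf_pow_of_dvd (Nat.div_ne_zero_iff.2 ⟨hr.ne_zero, Nat.le_of_dvd (orderOf_pos g) hgr⟩)
        (Nat.div_dvd_of_dvd hgr), Nat.div_div_self hgr (orderOf_pos g).ne']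
    have hcard : ∀ a : G, orderOf a = r →
        Nat.card (Subgroup.zpowers a) = r ^ (Nat.card G).factorization r := fun a ha => by
      rw [Nat.card_zpowers, ha, hx.factorization_eq_one, pow_one]
    let P₁ : Sylow r G := Sylow.ofCard _ (hcard w hw)
    let P₂ : Sylow r G := Sylow.ofCard _ (hcard x hx.orderOf_x)
    obtain ⟨d, hd⟩ := MulAction.exists_smul_eq G P₁ P₂
    have hmem : d * w * d⁻¹ ∈ Subgroup.zpowers x := by
      show d * w * d⁻¹ ∈ (P₂ : Subgroup G)
      rw [← hd, Sylow.coe_subgroup_smul]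
      exact ⟨w, Subgroup.mem_zpowers w, rfl⟩
    obtain ⟨j, -, hj⟩ := hx.mem_zpowers_iff_pow.1 hmem
    have hjr : ¬ r ∣ j := fun hdv => by
      rw [hx.pow_eq_one_iff.2 hdv, eq_comm, conj_eq_one_iff] at hj
      rw [hj, orderOf_one] at hw
      exact hr.ne_one hw.symm
    have hcg : d * g * d⁻¹ ∈ cent x := mem_cent_iff.2 (hx.commute_of_commute_pow hjr (by
      rw [hj]; exact SemiconjBy.conj_iff.2 ((Commute.refl g).pow_right _)))
    obtain ⟨m, hm⟩ := QuotientGroup.mk_out_eq_mul N d⁻¹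
    refine Finset.mem_image.2 ⟨⟨((d⁻¹ : G) : G ⧸ N), ⟨_, hconjC (m : G)⁻¹ (inv_mem m.2) _ hcg⟩⟩,
      Finset.mem_univ _, ?_⟩
    simp only [Φ, hm]
    group
  have h1 : (Finset.univ.filter (fun g : G => r ∣ orderOf g)).card ≤
      Nat.card (G ⧸ N) * Nat.card (cent x) := by
    rw [← Nat.card_prod, Nat.card_eq_fintype_card (α := (G ⧸ N) × cent x), ← Finset.card_univ]
    exact (Finset.card_le_card hsub).trans Finset.card_image_le
  have hle : cent x ≤ N := DefectOne.cent_le_norm hx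
  have h2 : Nat.card N = Nat.card (cent x) * (cent x).relIndex N := by
    rw [Subgroup.relIndex, ← Nat.card_congr (Subgroup.subgroupOfEquivOfLe hle).toEquiv,
      Subgroup.card_mul_index]
  have h3 := two_le_relIndex hx hperf
  have h4 := Subgroup.card_eq_card_quotient_mul_card_subgroup N
  rw [h2] at h4
  rw [h4]
  calc 2 * (Finset.univ.filter (fun g : G => r ∣ orderOf g)).card
      ≤ 2 * (Nat.card (G ⧸ N) * Nat.card (cent x)) := Nat.mul_le_mul_left 2 h1
    _ = Nat.card (G ⧸ N) * (Nat.card (cent x) * 2) := by ring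
    _ ≤ _ := Nat.mul_le_mul_left _ (Nat.mul_le_mul_left _ h3)

end CfsgLib.BrauerTuan
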