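import Cfsg.Agent.Lib.BrauerRey.Count

/-!
# Pairs of conjugate involutions with product of order `p`
-/

set_option autoImplicit false

namespace CfsgLib.BrauerTuan

open Cfsg CfsgLib.DefectOne CfsgLib.BrauerRey
open scoped ComplexConjugate Classical

universe u

variable {G : Type u} [Group G] [Finite G] {p : ℕ} [Fact p.Prime] {z y : G} {e t n : ℕ}
  (h : Num p z y e t n)

include h

/-- A function against the values at `z`, summed by the principal block. -/
theorem sum_conj_z_blk {X Y : Finset (IrrCharacter G)} {σ : IrrCharacter G → ℤ} {δ : ℤ} {f₀ : ℕ}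
    (B : Blk p z e t X Y σ δ f₀) (F : IrrCharacter G → ℂ) (c : ℂ) (hF : ∀ θ ∈ Y, F θ = c) :
    ∑ χ : IrrCharacter G, F χ * conj ((χ : G → ℂ) z) =
      (∑ χ ∈ X, (σ χ : ℂ) * F χ) - (δ : ℂ) * c := by
  have hp := h.ctx.prime
  have hi : ¬ p ∣ p - 1 := fun hd => by
    have := Nat.le_of_dvd (by have := hp.two_le; omega) hd
    have := hp.two_le
    omega
  have hinv : z ^ (p - 1) = z⁻¹ := by
    refine eq_inv_of_mul_eq_one_left ?_
    rw [← pow_succ, Nat.sub_add_cancel hp.one_le, h.ctx.hyp.pow_p]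
  have hc : ∀ χ : IrrCharacter G, conj ((χ : G → ℂ) z) = (χ : G → ℂ) (z ^ (p - 1)) := fun χ => by
    rw [hinv, CfsgLib.Char.IsIrrCharacter.apply_inv χ.2]
  simp only [hc, mul_comm (F _)]
  rw [B.column h hi, Finset.sum_congr (s₁ := Y) rfl (fun θ hθ => by rw [hF θ hθ]), ← Finset.sum_mul,
    B.sum_Y _ hi]
  ring

theorem mem_norm_of_inverts {r : G} (hr : r * z * r⁻¹ = z⁻¹) : r ∈ norm₁ z := by
  have hp := h.ctx.prime
  refine h.ctx.hyp.mem_norm_iff.2 ⟨p - 1, fun hd => ?_, ?_⟩
  · have := Nat.le_of_dvd (by have := hp.two_le; omega) hd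
    have := hp.two_le
    omega
  · rw [hr]
    refine (eq_inv_of_mul_eq_one_left ?_).symm
    rw [← pow_succ, Nat.sub_add_cancel hp.one_le, h.ctx.hyp.pow_p]

/-- The pairs from the class of an involution of the complement with product `z`. -/
theorem card_pairs_z {u : G} (hu : u ∈ Subgroup.zpowers y) (hu2 : orderOf u = 2) :
    Nat.card (Pairs u z) = p := by
  have hu1 : u ≠ 1 := fun e1 => by rw [e1, orderOf_one] at hu2; norm_num at hu2
  have huu : u * u = 1 := by rw [← sq, ← hu2, pow_orderOf_eq_one]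
  have hui : u⁻¹ = u := inv_eq_of_mul_eq_one_right huu
  have hinvz : ∀ {x : G}, x ∈ Subgroup.zpowers z → u * x * u⁻¹ = x⁻¹ := by
    intro x hx
    obtain ⟨i, rfl⟩ := Subgroup.mem_zpowers_iff.1 hx
    rw [← conj_zpow, h.commute_z_pow (h.mem_norm hu) hu2, inv_zpow]
  let f : Subgroup.zpowers z → Pairs u z := fun x =>
    ⟨((x : G) * u, (x : G) * z⁻¹ * u), h.isConj_mul hu hu1 x.2,
      h.isConj_mul hu hu1 (mul_mem x.2 (inv_mem (Subgroup.mem_zpowers z))), by
      show (x : G) * u * ((x : G) * z⁻¹ * u) = z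
      calc (x : G) * u * ((x : G) * z⁻¹ * u) = (x : G) * (u * ((x : G) * z⁻¹) * u⁻¹) * (u * u) := by
            group
        _ = z := by
            obtain ⟨i, hi⟩ := Subgroup.mem_zpowers_iff.1 x.2
            rw [hinvz (mul_mem x.2 (inv_mem (Subgroup.mem_zpowers z))), huu, mul_one, ← hi]
            group⟩
  rw [← Nat.card_eq_of_bijective f ⟨fun a b hab => ?_, fun pr => ?_⟩, h.ctx.card_zpowers]
  · have := congrArg (fun pr : Pairs u z => pr.1.1) hab
    exact Subtype.ext (mul_right_cancel this)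
  · obtain ⟨hinv, hsq⟩ := inverts_of_pairs huu pr
    have hx : pr.1.1 * u ∈ Subgroup.zpowers z := by
      rw [← h.ctx.cent_eq, Subgroup.mem_centralizer_singleton_iff]
      have h3 : pr.1.1 * z⁻¹ * pr.1.1⁻¹ = z := by rw [← conj_inv, hinv, inv_inv]
      calc pr.1.1 * u * z = pr.1.1 * (u * z * u⁻¹) * u := by group
        _ = pr.1.1 * z⁻¹ * pr.1.1⁻¹ * (pr.1.1 * u) := by
            rw [hinvz (Subgroup.mem_zpowers z)]; group
        _ = z * (pr.1.1 * u) := by rw [h3]
    refine ⟨⟨_, hx⟩, Subtype.ext (Prod.ext ?_ ?_)⟩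
    · show pr.1.1 * u * u = pr.1.1
      rw [mul_assoc, huu, mul_one]
    · apply mul_left_cancel (a := pr.1.1)
      show pr.1.1 * (pr.1.1 * u * z⁻¹ * u) = pr.1.1 * pr.1.2
      rw [pr.2.2.2]
      calc pr.1.1 * (pr.1.1 * u * z⁻¹ * u) = pr.1.1 * pr.1.1 * (u * z⁻¹ * u⁻¹) * (u * u) := by
            group
        _ = z := by
            rw [hsq, huu, one_mul, mul_one, hinvz (inv_mem (Subgroup.mem_zpowers z)), inv_inv]

/-- With a complement of order two, an involution with such a pair is conjugate to it. -/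
theorem isConj_of_pairs (he : e = 2) {v : G} (hv : orderOf v = 2) (pr : Pairs v z) :
    IsConj y v := by
  have hvv : v * v = 1 := by rw [← sq, ← hv, pow_orderOf_eq_one]
  obtain ⟨hinv, hsq⟩ := inverts_of_pairs hvv pr
  obtain ⟨x, hx, q, hq, hxq⟩ := h.exists_decomp (mem_norm_of_inverts h hinv)
  obtain ⟨g, hg⟩ := isConj_iff.1 pr.2.1
  have ho : orderOf pr.1.1 = 2 := by
    rw [← hg, show orderOf (g * v * g⁻¹) = orderOf v from
      orderOf_injective (MulAut.conj g).toMonoidHom (MulAut.conj g).injective _, hv]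
  have hq1 : q ≠ 1 := fun hq0 => by
    rw [hq0, mul_one] at hxq
    have hd := Subgroup.orderOf_dvd_natCard _ (hxq ▸ hx : pr.1.1 ∈ Subgroup.zpowers z)
    rw [ho, h.ctx.card_zpowers] at hd
    rcases (Nat.dvd_prime h.ctx.prime).1 hd with h2 | h2
    · omega
    · have := h.p_odd
      omega
  have hqy : q = y := by
    have hyo : orderOf y = 2 := by rw [h.orderOf_y, he]
    obtain ⟨i, hi⟩ := (isOfFinOrder_of_finite y).mem_powers_iff_mem_zpowers.2 hq
    simp only at hi
    rw [← hi, ← pow_mod_orderOf, hyo] at hq1 ⊢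
    rcases Nat.mod_two_eq_zero_or_one i with h2 | h2
    · rw [h2, pow_zero] at hq1; exact absurd rfl hq1
    · rw [h2, pow_one]
  have h1 : IsConj y pr.1.1 := by
    rw [hxq, hqy]
    exact h.isConj_mul (Subgroup.mem_zpowers y) (hqy ▸ hq1) hx
  exact h1.trans pr.2.1.symm

end CfsgLib.BrauerTuan
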