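import Cfsg.Agent.Lib.BrauerTuan.Counting
import Cfsg.Agent.Lib.BrauerRey.Main

/-!
# Simple groups of order `p r q ^ b`
-/

set_option autoImplicit false

namespace CfsgLib.BrauerTuan

open Cfsg CfsgLib.DefectOne CfsgLib.BrauerRey
open scoped Classical

universe u

variable {G : Type u} [Group G] [Finite G]

theorem three_dvd_two_pow_odd_add_one {k : ℕ} (hk : Odd k) : 3 ∣ 2 ^ k + 1 := by
  obtain ⟨j, rfl⟩ := hk
  induction j with
  | zero => norm_num
  | succ j ih =>
    have h : 2 ^ (2 * (j + 1) + 1) + 1 + 3 = 4 * (2 ^ (2 * j + 1) + 1) := by ring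
    have h3 : 3 ∣ 2 ^ (2 * (j + 1) + 1) + 1 + 3 := h ▸ dvd_mul_of_dvd_right ih 4
    exact (Nat.dvd_add_left dvd_rfl).1 h3

/-- A simple group of order `p r q ^ b`, `r + 1 < p`, is `PSL₂(5)` or `PSL₂(7)`. -/
theorem prime_cofactor [IsSimpleGroup G] (hna : ¬ IsMulCommutative G) {p q r b : ℕ} [Fact p.Prime]
    (hq : q.Prime) (hr : r.Prime) (hpq : p ≠ q) (hqr : q ≠ r)
    (hG : Nat.card G = p * q ^ b * r) (hrp : r + 1 < p) :
    (p = 5 ∨ p = 7) ∧ ∃ (F : Type) (_ : Field F) (_ : Fintype F),
      (Fintype.card F = 4 ∧ p = 5 ∨ Fintype.card F = p) ∧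
      Nonempty (G ≃* Matrix.ProjectiveSpecialLinearGroup (Fin 2) F) := by
  cases nonempty_fintype G
  have hp : p.Prime := Fact.out
  obtain ⟨z, y, e, t, n, X, Y, σ, δ, f₀, T⟩ := exists_tuan hna hq hpq hG hrp
  have hfr : f₀ = r := ((Nat.dvd_prime hr).1 T.exc).resolve_left (by have := T.one_lt; omega)
  have het := T.num.het
  rcases T.cases with ⟨hδ, hf⟩ | ⟨hδ, hfe⟩
  · -- degree `(p - 1) / 2`
    obtain ⟨h2e, ⟨φ⟩⟩ := T.psl_of_plus hna hδ
    have hp3 : 3 < p := by have := T.num.he; omega
    have hcard : 2 * (q ^ b * r) + 1 = p ^ 2 := by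
      have h1 := card_psl_prime (p := p) hp3
      rw [← Nat.card_congr φ.toEquiv, hG] at h1
      have h2 : 1 ≤ p ^ 2 := Nat.one_le_pow _ _ hp.pos
      have h3 : 2 * (q ^ b * r) = p ^ 2 - 1 := Nat.eq_of_mul_eq_mul_left hp.pos (by rw [← h1]; ring)
      omega
    obtain ⟨hq2, -⟩ := prime_form hp hp3 hq hrp hcard
    subst hq2
    have h4 : 2 ^ b = p + 1 := by
      refine Nat.eq_of_mul_eq_mul_left (show 0 < 2 * r from Nat.mul_pos two_pos hr.pos) ?_
      nlinarith
    have hp7 : p = 7 := by
      rcases Nat.lt_or_ge b 3 with h | h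
      · have := Nat.pow_le_pow_right (show 1 ≤ 2 by norm_num) (show b ≤ 2 by omega)
        omega
      · obtain ⟨k, rfl⟩ : ∃ k, b = k + 3 := ⟨b - 3, by omega⟩
        rcases Nat.eq_zero_or_pos k with rfl | hk
        · norm_num at h4; omega
        · exfalso
          -- `p` and `(p - 1) / 2` are both prime
          rcases Nat.even_or_odd k with ⟨j, hj⟩ | ⟨j, hj⟩
          · -- `r = 2^(k+2) - 1` is divisible by three
            have h5 : r + 1 = 2 ^ (k + 2) := by
              rw [pow_succ] at h4; omega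
            have h6 : 3 ∣ r := by
              have h7 : 4 ^ (j + 1) % 3 = 1 := by rw [Nat.pow_mod]; norm_num
              rw [show k + 2 = 2 * (j + 1) by omega, pow_mul, show (2 : ℕ) ^ 2 = 4 by norm_num] at h5
              omega
            have h8 := (Nat.prime_dvd_prime_iff_eq Nat.prime_three hr).1 h6
            have h9 : 2 ^ 3 ≤ 2 ^ (k + 2) := Nat.pow_le_pow_right (by norm_num) (by omega)
            omega
          · have h6 : 3 ∣ p := by
              have h7 : 4 ^ (j + 2) % 3 = 1 := by rw [Nat.pow_mod]; norm_num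
              rw [show k + 3 = 2 * (j + 2) by omega, pow_mul, show (2 : ℕ) ^ 2 = 4 by norm_num] at h4
              omega
            have h8 := (Nat.prime_dvd_prime_iff_eq Nat.prime_three hp).1 h6
            omega
    exact ⟨Or.inr hp7, ZMod p, inferInstance, inferInstance, Or.inr (ZMod.card p), ⟨φ⟩⟩
  · obtain ⟨hq2, hg, -, hodd, h2e, c, hc, hc1⟩ := T.minus_facts hδ
    rcases Nat.lt_or_ge c 2 with hc2 | hc2
    · -- `e = 2`
      have he : e = 2 := by rw [hc, show c = 1 by omega, pow_one]
      obtain ⟨hpb, hn⟩ := T.two_case he hδ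
      have hp5 : p = 5 := by
        rcases Nat.lt_or_ge b 3 with h | h
        · have := T.one_lt
          interval_cases b <;> omega
        · exfalso
          rcases Nat.even_or_odd b with ⟨j, hj⟩ | hb
          · have h6 : 3 ∣ r := by
              have h7 : 4 ^ j % 3 = 1 := by rw [Nat.pow_mod]; norm_num
              rw [show b = 2 * j by omega, pow_mul, show (2 : ℕ) ^ 2 = 4 by norm_num] at hpb
              omega
            have h8 := (Nat.prime_dvd_prime_iff_eq Nat.prime_three hr).1 h6
            have h9 : 2 ^ 3 ≤ 2 ^ b := Nat.pow_le_pow_right (by norm_num) h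
            omega
          · have h6 : 3 ∣ p := hpb ▸ three_dvd_two_pow_odd_add_one hb
            have h8 := (Nat.prime_dvd_prime_iff_eq Nat.prime_three hp).1 h6
            omega
      refine ⟨Or.inl hp5, ?_⟩
      rcases T.num.ctx.classification hn with
        ⟨F, iF, iFF, hF, -, hiso⟩ | ⟨m, F, iF, iFF, hF, hpm, -, hiso⟩
      · exact ⟨F, iF, iFF, Or.inr hF, hiso⟩
      · exact ⟨F, iF, iFF, Or.inl ⟨by omega, hp5⟩, hiso⟩
    · exfalso
      have he4 : 4 ≤ e := by
        rw [hc]
        calc 4 = 2 ^ 2 := rfl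
          _ ≤ 2 ^ c := Nat.pow_le_pow_right (by norm_num) hc2
      have ht2 : 2 ≤ t := by
        rcases Nat.lt_or_ge t 2 with h | h
        · interval_cases t
          · omega
          · omega
        · exact h
      have hr2 : r ≠ 2 := fun h => by rw [hfr, h] at hodd; exact absurd hodd (by decide)
      haveI := Fact.mk hr
      have hrG : r ∣ Nat.card G := hG ▸ dvd_mul_left r _
      obtain ⟨x, hx⟩ := exists_prime_orderOf_dvd_card' (G := G) r hrG
      have hrne : ¬ r ∣ p * q ^ b := fun h => by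
        rcases hr.dvd_mul.1 h with h | h
        · have := (Nat.prime_dvd_prime_iff_eq hr hp).1 h
          omega
        · exact hqr ((Nat.prime_dvd_prime_iff_eq hr hq).1 (hr.dvd_of_dvd_pow h)).symm
      have hH : HypOne r x := ⟨hr, hx, fun h => hrne (by
        rw [hG, sq] at h
        exact Nat.dvd_of_mul_dvd_mul_right hr.pos h)⟩
      have hsub : Finset.univ.filter (fun g : G => ¬ p ∣ orderOf g ∧ ∀ k : ℕ, orderOf g ≠ 2 ^ k) ⊆
          Finset.univ.filter (fun g : G => r ∣ orderOf g) := by
        intro g hg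
        obtain ⟨hgp, hg2⟩ := (Finset.mem_filter.1 hg).2
        refine Finset.mem_filter.2 ⟨Finset.mem_univ _, ?_⟩
        by_contra hgr
        have h1 : orderOf g ∣ p * (q ^ b * r) := by
          rw [← mul_assoc, ← hG]; exact orderOf_dvd_natCard g
        have h2 := ((hp.coprime_iff_not_dvd.2 hgp).symm).dvd_of_dvd_mul_left h1
        obtain ⟨k, -, hk⟩ := (Nat.dvd_prime_pow hq).1
          (((hr.coprime_iff_not_dvd.2 hgr).symm).dvd_of_dvd_mul_right h2)
        exact hg2 k (by rw [hk, hq2])
      have h1 := T.two_count hδ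
      have h2 := card_singular_le hH T.num.ctx.perfect
      have h3 := Finset.card_le_card hsub
      have hG0 : 0 < Nat.card G := Nat.card_pos
      have h4 : 2 * p ≤ 2 * (e + t) + p := by
        refine Nat.le_of_mul_le_mul_left ?_ hG0
        calc Nat.card G * (2 * p) = 2 * (Nat.card G * p) := by ring
          _ ≤ 2 * (Nat.card G * (e + t) + p * _) := Nat.mul_le_mul_left 2 h1
          _ ≤ Nat.card G * (2 * (e + t)) + p * (2 * (Finset.univ.filter
              (fun g : G => r ∣ orderOf g)).card) := by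
            have := Nat.mul_le_mul_left p h3
            nlinarith
          _ ≤ Nat.card G * (2 * (e + t)) + p * Nat.card G :=
            Nat.add_le_add_left (Nat.mul_le_mul_left p h2) _
          _ = _ := by ring
      rcases Nat.lt_or_ge t 4 with ht4 | ht4
      swap
      · have : 4 * e ≤ e * t := by rw [mul_comm 4 e]; exact Nat.mul_le_mul_left e ht4
        have : 4 * t ≤ e * t := Nat.mul_le_mul_right t he4
        omega
      rcases Nat.lt_or_ge t 3 with ht3 | ht3
      · have ht : t = 2 := by omega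
        subst ht
        have hpe : p = 2 ^ (c + 1) + 1 := by rw [pow_succ, ← hc]; omega
        have hre : r = 2 ^ c + 1 := by rw [← hc]; omega
        rcases Nat.even_or_odd c with h | h
        · have h6 : 3 ∣ p := hpe ▸ three_dvd_two_pow_odd_add_one h.add_one
          have := (Nat.prime_dvd_prime_iff_eq Nat.prime_three hp).1 h6
          omega
        · have h6 : 3 ∣ r := hre ▸ three_dvd_two_pow_odd_add_one h
          have := (Nat.prime_dvd_prime_iff_eq Nat.prime_three hr).1 h6
          omega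
      · have ht : t = 3 := by omega
        subst ht
        have he5 : e ≤ 5 := by omega
        have hec : e = 4 := by
          rcases Nat.lt_or_ge c 3 with h | h
          · rw [hc, show c = 2 by omega]; norm_num
          · have : 2 ^ 3 ≤ 2 ^ c := Nat.pow_le_pow_right (by norm_num) h
            omega
        have : r = 9 := by omega
        subst this
        norm_num at hr

theorem three_primes_of_lt [IsSimpleGroup G] (hna : ¬ IsMulCommutative G) {p q r b : ℕ}
    (hp : p.Prime) (hq : q.Prime) (hr : r.Prime) (hpq : p ≠ q) (hpr : p ≠ r) (hqr : q ≠ r)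
    (hG : Nat.card G = p * r * q ^ b) (h4 : Even (Nat.card G) → ¬ 8 ∣ Nat.card G → 4 ∣ Nat.card G)
    (h : r < p) :
    (∃ (F : Type) (_ : Field F) (_ : Fintype F), (Fintype.card F = 4 ∨ Fintype.card F = 5) ∧
      Nonempty (G ≃* Matrix.ProjectiveSpecialLinearGroup (Fin 2) F)) ∨
    (∃ (F : Type) (_ : Field F) (_ : Fintype F), Fintype.card F = 7 ∧
      Nonempty (G ≃* Matrix.ProjectiveSpecialLinearGroup (Fin 2) F)) := by
  haveI := Fact.mk hp
  by_cases h1 : r + 1 < p
  swap
  · exfalso
    have hr2 : r = 2 := by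
      rcases hr.eq_two_or_odd with e | e
      · exact e
      · rcases hp.eq_two_or_odd with e' | e'
        · have := hr.two_le; omega
        · omega
    have hp3 : p = 3 := by omega
    subst hr2 hp3
    have hqo : Odd (q ^ b) := (hq.odd_of_ne_two hqr).pow
    have he : Even (Nat.card G) := by rw [hG]; exact ⟨3 * q ^ b, by ring⟩
    have h8 : ¬ 8 ∣ Nat.card G := fun h => by
      rw [hG] at h
      obtain ⟨k, hk⟩ := hqo
      omega
    have := h4 he h8
    rw [hG] at this
    obtain ⟨k, hk⟩ := hqo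
    omega
  obtain ⟨hpp, F, iF, iFF, hF, hiso⟩ := prime_cofactor (p := p) (b := b) hna hq hr hpq hqr
    (by rw [hG]; ring) h1
  rcases hpp with hp5 | hp7
  · refine Or.inl ⟨F, iF, iFF, ?_, hiso⟩
    rcases hF with ⟨hF, -⟩ | hF
    · exact Or.inl hF
    · exact Or.inr (by omega)
  · refine Or.inr ⟨F, iF, iFF, ?_, hiso⟩
    rcases hF with ⟨-, h5⟩ | hF <;> omega

/-- Simple groups of order `p r q ^ b`. -/
theorem three_primes [IsSimpleGroup G] (hna : ¬ IsMulCommutative G) {p q r b : ℕ}
    (hp : p.Prime) (hq : q.Prime) (hr : r.Prime) (hpq : p ≠ q) (hpr : p ≠ r) (hqr : q ≠ r)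
    (hG : Nat.card G = p * r * q ^ b) (h4 : Even (Nat.card G) → ¬ 8 ∣ Nat.card G → 4 ∣ Nat.card G) :
    (∃ (F : Type) (_ : Field F) (_ : Fintype F), (Fintype.card F = 4 ∨ Fintype.card F = 5) ∧
      Nonempty (G ≃* Matrix.ProjectiveSpecialLinearGroup (Fin 2) F)) ∨
    (∃ (F : Type) (_ : Field F) (_ : Fintype F), Fintype.card F = 7 ∧
      Nonempty (G ≃* Matrix.ProjectiveSpecialLinearGroup (Fin 2) F)) := by
  rcases Nat.lt_or_ge r p with h | h
  · exact three_primes_of_lt hna hp hq hr hpq hpr hqr hG h4 h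
  · exact three_primes_of_lt hna hr hq hp hqr.symm hpr.symm hpq.symm (by rw [hG, mul_comm p r]) h4
      (lt_of_le_of_ne h hpr)

end CfsgLib.BrauerTuan
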