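import Cfsg.Agent.Lib.BrauerTuan.Twist
import Cfsg.Agent.Lib.SmallCofactor.Basic
import Cfsg.Agent.Lib.HalfDegree.Main
import Cfsg.Agent.Lib.Linear.Card

/-!
# Simple groups of order `p q ^ b g₀` with `g₀ < p - 1`
-/

set_option autoImplicit false

namespace CfsgLib.BrauerTuan

open Cfsg CfsgLib.DefectOne CfsgLib.BrauerRey
open scoped Classical

universe u

/-- All the data of the principal block. -/
structure Tuan {G : Type u} [Group G] [Finite G] (p q b g₀ : ℕ) [Fact p.Prime] (z y : G)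
    (e t n : ℕ) (X Y : Finset (IrrCharacter G)) (σ : IrrCharacter G → ℤ) (δ : ℤ) (f₀ : ℕ) :
    Prop where
  num : Num p z y e t n
  blk : Blk p z e t X Y σ δ f₀
  q_prime : q.Prime
  ne : p ≠ q
  small : g₀ + 1 < p
  card_M : e * (1 + n * p) = q ^ b * g₀
  principal : CfsgLib.Char.principalIrr ∈ X
  deg_X : ∀ χ ∈ X, χ ≠ CfsgLib.Char.principalIrr → q ∣ deg χ
  exc : f₀ ∣ g₀
  not_q : ¬ q ∣ f₀
  one_lt : 1 < f₀
  rel_mod : (q : ℤ) ∣ δ * f₀ - 1
  cases : (δ = 1 ∧ f₀ = e) ∨ (δ = -1 ∧ f₀ + e = p)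

variable {G : Type u} [Group G] [Finite G] {p q b g₀ : ℕ} [Fact p.Prime] {z : G}

theorem facts (hperf : commutator G = ⊤) (hq : q.Prime) (hg : g₀ + 1 < p) (hg0 : 0 < g₀)
    {X Y : Finset (IrrCharacter G)} {s : IrrCharacter G → ℤ} {δ : ℤ} {θ : IrrCharacter G}
    (hθ : θ ∈ Y) (hdisj : Disjoint X Y)
    (hdvd : ∀ χ ∈ X ∪ Y, deg χ ∣ q ^ b * g₀)
    (hs : ∀ χ ∈ X, s χ = 1 ∨ s χ = -1) (hδ : δ = 1 ∨ δ = -1)
    (hmod : ∀ χ ∈ X, (deg χ : ℤ) ≡ s χ [ZMOD p])
    (hrel : δ * (deg θ : ℤ) = ∑ χ ∈ X, s χ * (deg χ : ℤ))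
    (hone : CfsgLib.Char.principalIrr ∈ X → s CfsgLib.Char.principalIrr = 1)
    (heq : ∀ θ' ∈ Y, deg θ' = deg θ)
    (hp1 : CfsgLib.Char.principalIrr ∈ X ∪ Y) :
    CfsgLib.Char.principalIrr ∈ X ∧ (∀ χ ∈ X, χ ≠ CfsgLib.Char.principalIrr → q ∣ deg χ) ∧
      deg θ ∣ g₀ ∧ ¬ q ∣ deg θ ∧ 1 < deg θ ∧ (q : ℤ) ∣ δ * (deg θ : ℤ) - 1 := by
  have hcop : ∀ χ ∈ X ∪ Y, ¬ q ∣ deg χ → deg χ ∣ g₀ := fun χ hχ hn =>
    (((hq.coprime_iff_not_dvd.2 hn).symm.pow_right b)).dvd_of_dvd_mul_left (hdvd χ hχ)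
  have hX : ∀ χ ∈ X, χ ≠ CfsgLib.Char.principalIrr → q ∣ deg χ := by
    intro χ hχ hne
    by_contra hn
    have h1 := Nat.le_of_dvd hg0 (hcop χ (Finset.mem_union_left _ hχ) hn)
    have h2 := deg_pos χ
    have h3 : deg χ ≠ 1 := fun h => hne (eq_principal_of_deg_eq_one hperf h)
    obtain ⟨c, hc⟩ := Int.ModEq.dvd (hmod χ hχ).symm
    have hlt : |(p : ℤ) * c| < p := by
      rw [← hc, abs_lt]
      rcases hs χ hχ with h | h <;> rw [h] <;> constructor <;> omega
    rw [abs_mul, abs_of_nonneg (Int.natCast_nonneg p)] at hlt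
    have hc0 : c = 0 := by
      by_contra hc0
      have := mul_le_mul_of_nonneg_left (Int.one_le_abs hc0) (Int.natCast_nonneg p)
      omega
    rw [hc0, mul_zero, sub_eq_zero] at hc
    rcases hs χ hχ with h | h <;> rw [h] at hc <;> omega
  have hsum : ∀ T ⊆ X, (∀ χ ∈ T, χ ≠ CfsgLib.Char.principalIrr) →
      (q : ℤ) ∣ ∑ χ ∈ T, s χ * (deg χ : ℤ) := fun T hT hT1 =>
    Finset.dvd_sum fun χ hχ => dvd_mul_of_dvd_right (Int.natCast_dvd_natCast.2
      (hX χ (hT hχ) (hT1 χ hχ))) _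
  have hpX : CfsgLib.Char.principalIrr ∈ X := by
    rcases Finset.mem_union.1 hp1 with h | h
    · exact h
    · exfalso
      have hd : deg θ = 1 := (heq _ h).symm.trans deg_principal
      have h1 := hsum X subset_rfl fun χ hχ e => Finset.disjoint_left.1 hdisj hχ (e ▸ h)
      rw [← hrel, hd] at h1
      have h2 : (q : ℤ) ∣ ((1 : ℕ) : ℤ) := by
        rcases hδ with e | e <;> rw [e] at h1 <;> simpa using h1
      exact hq.not_dvd_one (Int.natCast_dvd_natCast.1 h2)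
  have hmod1 : (q : ℤ) ∣ δ * (deg θ : ℤ) - 1 := by
    rw [hrel, ← Finset.add_sum_erase _ _ hpX, hone hpX, deg_principal, Nat.cast_one, mul_one,
      add_sub_cancel_left]
    exact hsum _ (Finset.erase_subset _ _) fun χ hχ => (Finset.mem_erase.1 hχ).1
  have hnq : ¬ q ∣ deg θ := fun h => by
    have h2 := dvd_sub (dvd_mul_of_dvd_right (Int.natCast_dvd_natCast.2 h) δ) hmod1
    rw [sub_sub_cancel] at h2
    exact hq.not_dvd_one (Int.natCast_dvd_natCast.1 (by exact_mod_cast h2))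
  refine ⟨hpX, hX, hcop θ (Finset.mem_union_right _ hθ) hnq, hnq, ?_, hmod1⟩
  rcases Nat.lt_or_ge 1 (deg θ) with h | h
  · exact h
  · exfalso
    have := deg_pos θ
    exact Finset.disjoint_left.1 hdisj hpX
      (eq_principal_of_deg_eq_one hperf (show deg θ = 1 by omega) ▸ hθ)

/-- The values on the coset of an element of the centralizer in the principal block. -/
theorem apply_coset (h : HypOne p z) {χ : IrrCharacter G}
    (hχ : χ ∈ h.bset (CfsgLib.Char.principalIrr : IrrCharacter (regPart p z))) {i : ℕ}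
    (hi : ¬ p ∣ i) (v : regPart p z) : (χ : G → ℂ) (z ^ i * v) = (χ : G → ℂ) (z ^ i) := by
  have hi' : (i : ZMod p) ≠ 0 := fun e => hi ((ZMod.natCast_eq_zero_iff _ _).1 e)
  have key : ∀ v : regPart p z, (χ : G → ℂ) (z ^ i * (v : G)) =
      sec p z (CfsgLib.Char.principalIrr : IrrCharacter (regPart p z)) χ (i : ZMod p) := by
    intro v
    rw [h.apply_pow_mul, Finset.sum_eq_single CfsgLib.Char.principalIrr]
    · rw [h.secCoef_eq_sec, CfsgLib.Char.principalIrr_apply, mul_one]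
    · intro ψ _ hne
      have hnb : χ ∉ h.bset ψ := fun hm => hne (by
        have := h.mem_orbitN_of_mem_bset hχ hm
        rwa [h.orbitN_principal, Finset.mem_singleton] at this)
      rw [h.secCoef_eq_sec,
        show (i : ZMod p) = ((Units.mk0 _ hi' : (ZMod p)ˣ) : ZMod p) from rfl,
        (h.dd_eq_zero_iff ψ χ).1 (h.not_mem_bset_iff.1 hnb), zero_mul]
    · exact fun hn => absurd (Finset.mem_univ _) hn
  rw [key v, ← key 1, Subgroup.coe_one, mul_one]

/-- The setting of Brauer and Tuan. -/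
theorem exists_tuan [IsSimpleGroup G] (hna : ¬ IsMulCommutative G) (hq : q.Prime) (hpq : p ≠ q)
    (hG : Nat.card G = p * q ^ b * g₀) (hg : g₀ + 1 < p) :
    ∃ (z y : G) (e t n : ℕ) (X Y : Finset (IrrCharacter G)) (σ : IrrCharacter G → ℤ) (δ : ℤ)
      (f₀ : ℕ), Tuan p q b g₀ z y e t n X Y σ δ f₀ := by
  have hp : p.Prime := Fact.out
  have hperf := CfsgLib.SmallPSL.commutator_eq_top hna
  have hg0 : 0 < g₀ := by
    rcases Nat.eq_zero_or_pos g₀ with h | h
    · rw [h, mul_zero] at hG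
      exact absurd hG Nat.card_pos.ne'
    · exact h
  have hpM : ¬ p ∣ q ^ b * g₀ := fun h => by
    rcases hp.dvd_mul.1 h with h | h
    · exact hpq ((Nat.prime_dvd_prime_iff_eq hp hq).1 (hp.dvd_of_dvd_pow h))
    · exact absurd (Nat.le_of_dvd hg0 h) (by omega)
  obtain ⟨z, hz⟩ := exists_prime_orderOf_dvd_card' (G := G) p
    (hG ▸ dvd_mul_of_dvd_left (dvd_mul_right p _) g₀)
  have hH : HypOne p z := ⟨hp, hz, fun h => hpM (by
    rw [hG, mul_assoc, sq] at h
    exact Nat.dvd_of_mul_dvd_mul_left hp.pos h)⟩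
  have hdiv : ∀ χ : IrrCharacter G, ¬ p ∣ deg χ → deg χ ∣ q ^ b * g₀ := fun χ hχ =>
    ((hp.coprime_iff_not_dvd.2 hχ).symm).dvd_of_dvd_mul_left (by
      rw [← mul_assoc, ← hG]; exact deg_dvd χ)
  set φ : IrrCharacter (regPart p z) := CfsgLib.Char.principalIrr with hφ
  obtain ⟨Y₁, δ₁, m, sh⟩ := hH.exists_shape φ
  obtain ⟨θ, hθ⟩ : Y₁.Nonempty := by
    rw [← Finset.card_pos, sh.card_Y]
    exact Nat.pos_of_ne_zero Subgroup.index_ne_zero_of_finite
  have h1r : ¬ p ∣ orderOf (1 : G) := by rw [orderOf_one]; exact hp.not_dvd_one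
  have hpY : CfsgLib.Char.principalIrr ∈ hH.bset φ \ Y₁ ∪ Y₁ := by
    rw [Finset.sdiff_union_of_subset sh.subset]
    exact hH.principalIrr_mem_bset
  obtain ⟨-, -, hd₁, -, hlt₁, -⟩ := facts (b := b) (X := hH.bset φ \ Y₁) (s := fun χ => -m χ)
    (δ := δ₁) hperf hq hg hg0 hθ Finset.sdiff_disjoint
    (fun χ hχ => hdiv χ (hH.not_dvd_of_mem_bset
      ((Finset.sdiff_union_of_subset sh.subset) ▸ hχ)))
    (fun χ hχ => by rcases sh.m_sign χ hχ with e | e <;> simp [e]) sh.δ_sign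
    (fun χ hχ => HypOne.Shape.principal_degree_X hH sh hχ) (Int.cast_injective (α := ℂ) (by
      push_cast
      simp only [deg_cast, neg_mul, Finset.sum_neg_distrib]
      linear_combination HypOne.Shape.relation hH sh hθ h1r))
    (fun hX => by
      have h2 := HypOne.Shape.principal_singular hH sh hX hp.not_dvd_one 1
      rw [CfsgLib.Char.principalIrr_apply] at h2
      have h3 : ((-m CfsgLib.Char.principalIrr : ℤ) : ℂ) = ((1 : ℤ) : ℂ) := by
        push_cast; exact h2.symm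
      exact Int.cast_injective h3)
    (fun θ' hθ' => Nat.cast_injective (R := ℂ) (by
      rw [deg_cast, deg_cast]; exact HypOne.Shape.eq_on_regular hH sh hθ' hθ h1r)) hpY
  have hne : θ ≠ CfsgLib.Char.principalIrr := fun h => by
    rw [h, deg_principal] at hlt₁; omega
  have hcent : Subgroup.centralizer ({z} : Set G) = Subgroup.zpowers z := by
    refine le_antisymm (fun g hg' => ?_) (Subgroup.zpowers_le.2 self_mem_cent)
    obtain ⟨i, -, v, rfl⟩ := hH.exists_decomp hg'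
    rw [eq_one_of_apply θ hne (apply_eq_one_of_lt hH θ
      (lt_of_le_of_lt (Nat.le_of_dvd hg0 hd₁) (by omega))
      fun j hj => apply_coset hH (sh.subset hθ) hj v), mul_one]
    exact Subgroup.npow_mem_zpowers z i
  have hC : Ctx p z := ⟨hp, hperf, hz, hcent⟩
  obtain ⟨y, e, t, n, hnum⟩ := hC.exists_num
  obtain ⟨X, Y, σ, δ, f₀, B⟩ := hnum.exists_blk
  have hcard : e * (1 + n * p) = q ^ b * g₀ := by
    refine Nat.eq_of_mul_eq_mul_left hp.pos ?_
    rw [← hnum.card_eq, hG, mul_assoc]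
  obtain ⟨θ', hθ'⟩ := Finset.card_pos.1 (show 0 < Y.card by rw [B.card_Y]; exact hnum.ht)
  obtain ⟨h1, h2, h3, h4, h5, h6⟩ := facts (b := b) (X := X) (s := σ) (δ := δ) hperf hq hg hg0
    hθ' B.disj (fun χ hχ => hdiv χ (B.not_dvd χ hχ)) B.sign B.δ_sign B.mod_X
    (by rw [B.deg_Y θ' hθ']; exact rel_one hnum B) (σ_principal hnum B)
    (fun θ'' hθ'' => by rw [B.deg_Y θ' hθ', B.deg_Y θ'' hθ'']) B.principal
  rw [B.deg_Y θ' hθ'] at h3 h4 h5 h6
  refine ⟨z, y, e, t, n, X, Y, σ, δ, f₀, hnum, B, hq, hpq, hg, hcard, h1, h2, h3, h4, h5, h6, ?_⟩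
  have hf := Nat.le_of_dvd hg0 h3
  have he : e < p := by
    have := Nat.mul_le_mul_left e hnum.ht
    have := hnum.het
    omega
  obtain ⟨c, hc⟩ := Int.ModEq.dvd B.mod_Y.symm
  have hplus : ∀ {x : ℤ}, (p : ℤ) ∣ x → -(p : ℤ) < x → x < p → x = 0 := fun hx h1 h2 =>
    Int.eq_zero_of_abs_lt_dvd hx (abs_lt.2 ⟨h1, h2⟩)
  rcases B.δ_sign with hδ | hδ
  · refine Or.inl ⟨hδ, ?_⟩
    rw [hδ] at hc
    have := hplus ⟨c, hc⟩ (by omega) (by omega)
    omega
  · refine Or.inr ⟨hδ, ?_⟩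
    rw [hδ] at hc
    have h8 : (p : ℤ) ∣ (f₀ : ℤ) + e - p := ⟨c - 1, by linear_combination hc⟩
    have := hplus h8 (by omega) (by omega)
    omega

namespace Tuan

variable {y : G} {e t n : ℕ} {X Y : Finset (IrrCharacter G)} {σ : IrrCharacter G → ℤ} {δ : ℤ}
  {f₀ : ℕ} (T : Tuan p q b g₀ z y e t n X Y σ δ f₀)

include T

theorem g0_pos : 0 < g₀ := by
  rcases Nat.eq_zero_or_pos g₀ with h | h
  · have h1 := T.card_M
    rw [h, mul_zero] at h1
    have := T.num.he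
    rcases Nat.mul_eq_zero.1 h1 with h2 | h2 <;> omega
  · exact h

theorem f_le : f₀ ≤ g₀ := Nat.le_of_dvd T.g0_pos T.exc

theorem exists_theta : ∃ θ, θ ∈ Y ∧ deg θ = f₀ ∧ θ ≠ CfsgLib.Char.principalIrr := by
  obtain ⟨θ, hθ⟩ := Finset.card_pos.1 (show 0 < Y.card by rw [T.blk.card_Y]; exact T.num.ht)
  exact ⟨θ, hθ, T.blk.deg_Y θ hθ, fun h => Finset.disjoint_left.1 T.blk.disj T.principal (h ▸ hθ)⟩

theorem card_G : Nat.card G = p * q ^ b * g₀ := by
  rw [T.num.card_eq, T.card_M, mul_assoc]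

theorem two_e (he : e < p - 1) : 2 * e + 1 ≤ p := by
  have := T.num.het
  have : t ≠ 1 := fun h => by rw [h, mul_one] at this; omega
  have := Nat.mul_le_mul_left e (show 2 ≤ t by have := T.num.ht; omega)
  omega

theorem psl_of_plus [IsSimpleGroup G] (hna : ¬ IsMulCommutative G) (hδ : δ = 1) :
    2 * e + 1 = p ∧
      Nonempty (G ≃* Matrix.ProjectiveSpecialLinearGroup (Fin 2) (ZMod p)) := by
  have hp := T.num.ctx.prime
  have hf : f₀ = e := by
    rcases T.cases with h | h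
    · exact h.2
    · omega
  obtain ⟨θ, -, hd, hne⟩ := T.exists_theta
  have hchar := CfsgLib.Char.IsIrrCharacter.isCharacter θ.2
  have hfaith : ∀ g : G, (θ : G → ℂ) g = (θ : G → ℂ) 1 → g = 1 := fun g hg =>
    eq_one_of_apply θ hne hg
  have hdiv : p ∣ Nat.card G := by rw [T.num.card_eq]; exact dvd_mul_right p _
  have hle : p ≤ 2 * e + 1 := by
    have := SmallCofactor.prime_le hna hchar hfaith hp hdiv
    rwa [show Cfsg.charDegree (θ : G → ℂ) = e from hd.trans hf] at this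
  have h2e : 2 * e + 1 ≤ p := T.two_e (by have := T.f_le; have := T.small; omega)
  refine ⟨by omega, ?_⟩
  have hdeg : CfsgLib.Char.degree (θ : G → ℂ) = e := Nat.cast_injective (R := ℂ) (by
    rw [CfsgLib.Char.IsCharacter.degree_cast hchar, ← deg_cast, hd, hf])
  have hnn : ∀ H : Subgroup G, H.Normal → Nat.card H ≠ p := fun H hH hc => by
    rcases hH.eq_bot_or_eq_top with h | h
    · rw [h, Subgroup.card_bot] at hc
      exact hp.ne_one hc.symm
    · rw [h, Subgroup.card_top, T.num.card_eq] at hc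
      have h2 : e * (1 + n * p) = 1 :=
        Nat.eq_of_mul_eq_mul_left hp.pos (hc.trans (mul_one p).symm)
      have := T.num.he
      have := Nat.eq_one_of_mul_eq_one_right h2
      omega
  obtain ⟨φ⟩ := HalfDegree.nonempty_quotient_center_equiv p hdiv T.num.ctx.not_sq hnn _ hchar
    hfaith (by rw [hdeg]; omega)
  have hZ : Subgroup.center G = ⊥ :=
    ((inferInstance : (Subgroup.center G).Normal).eq_bot_or_eq_top).resolve_right fun h =>
      hna ⟨⟨fun a c => ((Subgroup.mem_center_iff.1 (h ▸ Subgroup.mem_top a)) c).symm⟩⟩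
  exact ⟨((QuotientGroup.quotientBot (G := G)).symm.trans
    (QuotientGroup.quotientMulEquivOfEq hZ.symm)).trans φ⟩

end Tuan

/-- The form of `p` when `PSL₂(p)` has order `p q ^ b g₀`. -/
theorem prime_form {p q b g : ℕ} (hp : p.Prime) (hp3 : 3 < p) (hq : q.Prime) (hg : g + 1 < p)
    (h : 2 * (q ^ b * g) + 1 = p ^ 2) : q = 2 ∧ ∃ m, p = 2 ^ m + 1 ∨ p = 2 ^ m - 1 := by
  obtain ⟨k, hk⟩ := hp.odd_of_ne_two (by omega)
  have hk2 : 2 ≤ k := by omega
  have hM : q ^ b * g = 2 * (k * (k + 1)) := by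
    rw [hk] at h
    nlinarith
  have hg0 : 0 < g := Nat.pos_of_ne_zero fun h0 => by
    rw [h0, mul_zero] at hM
    rcases Nat.mul_eq_zero.1 hM.symm with e | e
    · omega
    · rcases Nat.mul_eq_zero.1 e with e | e <;> omega
  have hq2 : q = 2 := by
    by_contra hne
    have hodd : Nat.Coprime q 2 := (Nat.coprime_primes hq Nat.prime_two).2 hne
    have hd : q ^ b ∣ k * (k + 1) :=
      (hodd.pow_left b).dvd_of_dvd_mul_left (hM ▸ dvd_mul_right _ _)
    rcases Nat.eq_zero_or_pos b with rfl | hb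
    · rw [pow_zero, one_mul] at hM
      nlinarith
    have key : ∀ a c : ℕ, q ^ b ∣ a → q ^ b * g = 2 * (a * c) → 0 < a → 2 * c ≤ g := by
      intro a c ha hac ha0
      obtain ⟨a', rfl⟩ := ha
      have hg' : g = 2 * (a' * c) := Nat.eq_of_mul_eq_mul_left (pow_pos hq.pos b) (by
        rw [hac]; ring)
      have : 1 * c ≤ a' * c := Nat.mul_le_mul_right c (Nat.pos_of_mul_pos_left ha0)
      omega
    rcases (hq.prime.dvd_or_dvd (dvd_trans (dvd_pow_self q hb.ne') hd)) with h1 | h1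
    · have : ¬ q ∣ k + 1 := fun h2 => hq.not_dvd_one ((Nat.dvd_add_right h1).1 h2)
      have := key k (k + 1)
        (((hq.coprime_iff_not_dvd.2 this).pow_left b).dvd_of_dvd_mul_right hd) hM (by omega)
      omega
    · have : ¬ q ∣ k := fun h2 => hq.not_dvd_one ((Nat.dvd_add_right h2).1 h1)
      have := key (k + 1) k
        (((hq.coprime_iff_not_dvd.2 this).pow_left b).dvd_of_dvd_mul_left hd)
        (by rw [hM]; ring) (by omega)
      omega
  refine ⟨hq2, ?_⟩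
  subst hq2
  have key : ∀ a c : ℕ, Odd a → Odd c → a * c ∣ 2 ^ b * g → a * c ≤ g := fun a c ha hc hd =>
    Nat.le_of_dvd hg0
      (((Nat.coprime_two_left.2 (ha.mul hc)).pow_left b).symm.dvd_of_dvd_mul_left hd)
  rcases Nat.even_or_odd k with hk' | hk'
  · obtain ⟨j, r, hr, hjr⟩ := Nat.exists_eq_two_pow_mul_odd (show k ≠ 0 by omega)
    have h1 := key r (k + 1) hr hk'.add_one ⟨2 ^ (j + 1), by rw [hM]; nth_rewrite 1 [hjr]; ring⟩
    have hr1 : r = 1 := by
      rcases Nat.lt_or_ge r 2 with h2 | h2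
      · have := hr.pos; omega
      · have : 2 * (k + 1) ≤ r * (k + 1) := Nat.mul_le_mul_right _ h2
        omega
    exact ⟨j + 1, Or.inl (by rw [hk, hjr, hr1, pow_succ]; ring)⟩
  · obtain ⟨j, r, hr, hjr⟩ := Nat.exists_eq_two_pow_mul_odd (show k + 1 ≠ 0 by omega)
    have h1 := key r k hr hk' ⟨2 ^ (j + 1), by rw [hM, hjr]; ring⟩
    have hr1 : r = 1 := by
      rcases Nat.lt_or_ge r 3 with h2 | h2
      · obtain ⟨r', rfl⟩ := hr; omega
      · have : 3 * k ≤ r * k := Nat.mul_le_mul_right _ h2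
        omega
    refine ⟨j + 1, Or.inr ?_⟩
    rw [hr1, mul_one] at hjr
    rw [pow_succ]
    omega

theorem card_psl_prime (hp3 : 3 < p) :
    2 * Nat.card (Matrix.ProjectiveSpecialLinearGroup (Fin 2) (ZMod p)) = p * (p ^ 2 - 1) := by
  have h := CfsgLib.Linear.card_PSL_mul (n := Fin 2) (F := ZMod p)
  obtain ⟨k, hk⟩ := (Fact.out : p.Prime).odd_of_ne_two (show p ≠ 2 by omega)
  rwa [Fintype.card_fin, CfsgLib.Linear.card_SL_two, ZMod.card,
    show p - 1 = 2 * k by omega, Nat.gcd_mul_right_right] at h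

end CfsgLib.BrauerTuan
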