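import Cfsg.Agent.Lib.BrauerRey.LargePrime
import Cfsg.Agent.Lib.BlockReg.Integral
import Mathlib.Algebra.CharP.Lemmas
import Mathlib.RingTheory.RootsOfUnity.Complex

/-!
# Two elementary facts on character values
-/

set_option autoImplicit false

namespace CfsgLib.BrauerTuan

open Cfsg CfsgLib.DefectOne CfsgLib.BrauerRey
open scoped Classical

universe u

variable {G : Type u} [Group G] [Finite G] {p : ℕ} [Fact p.Prime] {z : G}

/-- If the values on the coset of `v` do not depend on `v` and the degree is below `p`, then `v`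
acts trivially. -/
theorem apply_eq_one_of_lt (h : HypOne p z) (χ : IrrCharacter G) {v : G} (hlt : deg χ < p)
    (hv : ∀ i, ¬ p ∣ i → (χ : G → ℂ) (z ^ i * v) = (χ : G → ℂ) (z ^ i)) :
    (χ : G → ℂ) v = (χ : G → ℂ) 1 := by
  obtain ⟨N, ρ, hρ, hχρ⟩ := χ.2
  have hp := h.prime
  have hNd : (N : ℂ) = (deg χ : ℂ) := by
    rw [deg_cast, ← hχρ, Representation.char_one, Module.finrank_fin_fun]
  have hN : N < p := by rw [Nat.cast_injective hNd]; exact hlt
  have hp0 : (p : ℂ) ≠ 0 := Nat.cast_ne_zero.2 hp.ne_zero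
  obtain ⟨ω, hω⟩ : ∃ ω : ℂ, IsPrimitiveRoot ω p := ⟨_, Complex.isPrimitiveRoot_exp p hp.ne_zero⟩
  let S : ℕ → Module.End ℂ (Fin N → ℂ) := fun j =>
    ∑ i ∈ Finset.range p, (ω ^ j) ^ i • ρ (z ^ i)
  let E : ℕ → Module.End ℂ (Fin N → ℂ) := fun j => (p : ℂ)⁻¹ • S j
  have hshift : ∀ j, ((ω ^ j) • ρ z) * S j = S j := by
    intro j
    have e1 := Finset.sum_range_succ' (fun i => (ω ^ j) ^ i • ρ (z ^ i)) p
    rw [Finset.sum_range_succ, h.pow_p, ← pow_mul, mul_comm, pow_mul, hω.pow_eq_one, one_pow,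
      pow_zero, pow_zero] at e1
    refine Eq.trans ?_ (add_right_cancel e1).symm
    simp only [S, Finset.mul_sum, smul_mul_smul_comm, ← map_mul, ← pow_succ']
  have hSS : ∀ j, S j * S j = (p : ℂ) • S j := by
    intro j
    have hi : ∀ i, ((ω ^ j) ^ i • ρ (z ^ i)) * S j = S j := by
      intro i
      induction i with
      | zero => rw [pow_zero, pow_zero, map_one, one_smul, one_mul]
      | succ i ih =>
        rw [pow_succ, pow_succ, map_mul, ← smul_mul_smul_comm, mul_assoc, hshift, ih]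
    conv_lhs => arg 1; simp only [S]
    rw [Finset.sum_mul, Finset.sum_congr rfl fun i _ => hi i, Finset.sum_const, Finset.card_range,
      Nat.cast_smul_eq_nsmul]
  have hidem : ∀ j, IsIdempotentElem (E j) := fun j => by
    show E j * E j = E j
    simp only [E, smul_mul_smul_comm, hSS, smul_smul, mul_assoc, inv_mul_cancel₀ hp0, mul_one]
  -- some eigenvalue of `z` is absent
  have hsum : ∑ j ∈ Finset.range p, LinearMap.trace ℂ _ (E j) = N := by
    simp only [E, S, map_smul, map_sum, ← Finset.smul_sum]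
    rw [Finset.sum_comm, Finset.sum_eq_single 0]
    · simp only [pow_zero, one_smul, map_one, Finset.sum_const, Finset.card_range, nsmul_eq_mul,
        smul_eq_mul]
      rw [← mul_assoc, inv_mul_cancel₀ hp0, one_mul]
      simp [Module.End.one_eq_id, LinearMap.trace_id]
    · intro i hi hi0
      rw [← Finset.sum_smul]
      have hne : ω ^ i ≠ 1 := fun e1 => hi0
        (Nat.eq_zero_of_dvd_of_lt (hω.pow_eq_one_iff_dvd i |>.1 e1) (Finset.mem_range.1 hi))
      have hgeo : ∑ j ∈ Finset.range p, (ω ^ j) ^ i = 0 := by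
        simp only [← pow_mul, mul_comm _ i]
        simp only [pow_mul]
        rw [geom_sum_eq hne, ← pow_mul, mul_comm, pow_mul, hω.pow_eq_one, one_pow, sub_self,
          zero_div]
      rw [hgeo, zero_smul]
    · intro h0
      exact absurd (Finset.mem_range.2 hp.pos) h0
  obtain ⟨j, hj⟩ : ∃ j, E j = 0 := by
    by_contra hcon
    push Not at hcon
    have hrk : ∀ j, LinearMap.trace ℂ _ (E j) =
        (Module.finrank ℂ (LinearMap.range (E j)) : ℂ) := fun j =>
      ((LinearMap.isProj_range_iff_isIdempotentElem (E j)).2 (hidem j)).trace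
    simp only [hrk] at hsum
    rw [← Nat.cast_sum] at hsum
    have h1 := Nat.cast_injective hsum
    have h2 : ∀ j ∈ Finset.range p, 1 ≤ Module.finrank ℂ (LinearMap.range (E j)) := fun j _ =>
      Nat.one_le_iff_ne_zero.2 fun h0 =>
        hcon j (LinearMap.range_eq_bot.1 (Submodule.finrank_eq_zero.1 h0))
    have h3 := Finset.card_nsmul_le_sum _ _ _ h2
    rw [Finset.card_range, smul_eq_mul, mul_one, h1] at h3
    omega
  have hS0 : S j = 0 := by
    simp only [E, smul_eq_zero, inv_eq_zero, hp0, false_or] at hj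
    exact hj
  have e1 : LinearMap.trace ℂ _ (S j * ρ v) - LinearMap.trace ℂ _ (S j) = 0 := by
    rw [hS0, zero_mul, map_zero, sub_zero]
  simp only [S, Finset.sum_mul, map_sum, ← Finset.sum_sub_distrib, smul_mul_assoc, map_smul,
    ← map_mul, smul_eq_mul, ← mul_sub] at e1
  rw [Finset.sum_eq_single 0] at e1
  · rw [pow_zero, pow_zero, one_mul, one_mul, sub_eq_zero] at e1
    rw [← hχρ]
    exact e1
  · intro i hi hi0
    have := hv i (fun hd => hi0 (Nat.eq_zero_of_dvd_of_lt hd (Finset.mem_range.1 hi)))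
    rw [← hχρ] at this
    exact mul_eq_zero_of_right _ (sub_eq_zero.2 this)
  · intro h0
    exact absurd (Finset.mem_range.2 hp.pos) h0

/-- A character of odd degree does not vanish at elements of two-power order. -/
theorem apply_ne_zero_of_odd (χ : IrrCharacter G) (hodd : Odd (deg χ)) {v : G} {k : ℕ}
    (hv : orderOf v = 2 ^ k) : (χ : G → ℂ) v ≠ 0 := by
  obtain ⟨N, ρ, hρ, hχρ⟩ := χ.2
  obtain ⟨s, hcard, hsum, -, hroot⟩ := CfsgLib.Char.exists_eigen_multiset ρ v
  obtain ⟨M, hMp, hMmax, h2M⟩ := CfsgLib.BlockReg.exists_isPModular Nat.prime_two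
  haveI := hMmax
  haveI : Fact (Nat.Prime 2) := ⟨Nat.prime_two⟩
  let f := Ideal.Quotient.mk M
  haveI : CharP (AlgInt ⧸ M) 2 := (CharP.charP_iff_prime_eq_zero Nat.prime_two).2 (by
    rw [show ((2 : ℕ) : AlgInt ⧸ M) = f ((2 : ℕ) : AlgInt) from (map_natCast f 2).symm]
    exact Ideal.Quotient.eq_zero_iff_mem.2 h2M)
  have hmem : ∀ w ∈ s, w ∈ AlgInt := fun w hw =>
    ⟨Polynomial.X ^ orderOf v - 1, Polynomial.monic_X_pow_sub_C 1 (orderOf_pos v).ne',
      by simp [hroot w hw]⟩
  let s' : Multiset AlgInt := s.attach.map fun w => ⟨w.1, hmem w.1 w.2⟩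
  have hs' : s'.map (fun w : AlgInt => (w : ℂ)) = s := by
    simp only [s', Multiset.map_map, Function.comp_def]
    exact Multiset.attach_map_val s
  intro h0
  have h1 : f s'.sum = 0 := by
    have : (s'.sum : ℂ) = 0 := by
      rw [show (s'.sum : ℂ) = (s'.map (fun w : AlgInt => (w : ℂ))).sum from
        map_multiset_sum (Subalgebra.val AlgInt) s', hs', ← hsum, hχρ, h0]
    rw [show s'.sum = 0 from Subtype.ext this, map_zero]
  have h2 : f s'.sum = (Multiset.card s' : AlgInt ⧸ M) := by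
    rw [map_multiset_sum, Multiset.map_congr rfl (g := fun _ => (1 : AlgInt ⧸ M)) fun w hw => ?_,
      Multiset.map_const', Multiset.sum_replicate, nsmul_eq_mul, mul_one]
    have hw1 : w ^ 2 ^ k = 1 := by
      obtain ⟨a, -, rfl⟩ := Multiset.mem_map.1 hw
      exact Subtype.ext (by
        rw [SubmonoidClass.coe_pow, OneMemClass.coe_one, ← hv]
        exact hroot a.1 a.2)
    have h3 : (f w - 1) ^ 2 ^ k = 0 := by
      rw [sub_pow_char_pow, one_pow, ← map_pow, hw1, map_one, sub_self]
    exact sub_eq_zero.1 (pow_eq_zero_iff (pow_ne_zero k two_ne_zero) |>.1 h3)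
  rw [h1] at h2
  have h4 : Multiset.card s' = deg χ := by
    rw [show Multiset.card s' = Multiset.card s by simp [s'], hcard, Module.finrank_fin_fun]
    refine Nat.cast_injective (R := ℂ) ?_
    rw [deg_cast, ← hχρ, Representation.char_one, Module.finrank_fin_fun]
  rw [h4, eq_comm, CharP.cast_eq_zero_iff (AlgInt ⧸ M) 2] at h2
  exact (Nat.not_even_iff_odd.2 hodd) (even_iff_two_dvd.2 h2)

end CfsgLib.BrauerTuan
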