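import Cfsg.Agent.Lib.BrauerTuan.Setting
import Cfsg.Agent.Lib.BrauerTuan.Invol

/-!
# Exceptional degree `p - 2`: all involutions are conjugate
-/

set_option autoImplicit false

namespace CfsgLib.BrauerTuan

open Cfsg CfsgLib.DefectOne CfsgLib.BrauerRey
open scoped ComplexConjugate Classical

universe u

variable {G : Type u} [Group G] [Finite G] {p q b g₀ : ℕ} [Fact p.Prime] {z y : G} {e t n : ℕ}
  {X Y : Finset (IrrCharacter G)} {σ : IrrCharacter G → ℤ} {δ : ℤ} {f₀ : ℕ}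

namespace Tuan

variable (T : Tuan p q b g₀ z y e t n X Y σ δ f₀)

include T

theorem minus_facts (hδ : δ = -1) :
    q = 2 ∧ g₀ = f₀ ∧ f₀ + e = p ∧ Odd f₀ ∧ 2 * e + 1 ≤ p ∧ ∃ c, e = 2 ^ c ∧ 1 ≤ c := by
  have hp := T.num.ctx.prime
  have hfe : f₀ + e = p := by
    rcases T.cases with h | h
    · omega
    · exact h.2
  have h2e : 2 * e + 1 ≤ p := T.two_e (by have := T.one_lt; omega)
  have hg : g₀ = f₀ := by
    obtain ⟨m, hm⟩ := T.exc
    rcases Nat.lt_or_ge m 2 with h2 | h2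
    · interval_cases m
      · have := T.g0_pos; omega
      · omega
    · have := Nat.mul_le_mul_left f₀ h2
      have := T.small
      omega
  have hco : Nat.Coprime e f₀ := by
    have h1 : Nat.Coprime e p := ((hp.coprime_iff_not_dvd.2 T.num.hep).symm)
    rwa [← hfe, Nat.coprime_add_self_right] at h1
  obtain ⟨c, -, hc⟩ := (Nat.dvd_prime_pow T.q_prime).1 (hco.dvd_of_dvd_mul_right
    (show e ∣ q ^ b * f₀ from hg ▸ T.card_M ▸ dvd_mul_right e _))
  have hc1 : 1 ≤ c := by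
    rcases Nat.eq_zero_or_pos c with h | h
    · rw [h, pow_zero] at hc; have := T.num.he; omega
    · exact h
  have hqe : q ∣ e := hc ▸ dvd_pow_self q (by omega)
  have hq2 : q = 2 := by
    have h1 : (q : ℤ) ∣ (f₀ : ℤ) + 1 := by
      have := T.rel_mod.neg_right
      rw [hδ] at this
      simpa [add_comm] using this
    have h2 : (q : ℤ) ∣ ((e * t : ℕ) : ℤ) := Int.natCast_dvd_natCast.2 (hqe.mul_right t)
    have h3 : (q : ℤ) ∣ ((e : ℕ) : ℤ) := Int.natCast_dvd_natCast.2 hqe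
    have h4 : (q : ℤ) ∣ 2 := by
      have h5 := dvd_sub (dvd_add h1 h3) h2
      have h6 : (f₀ : ℤ) + 1 + (e : ℤ) - ((e * t : ℕ) : ℤ) = 2 := by
        have := T.num.het
        omega
      rwa [h6] at h5
    exact (Nat.prime_dvd_prime_iff_eq T.q_prime Nat.prime_two).1 (by exact_mod_cast h4)
  refine ⟨hq2, hg, hfe, ?_, h2e, c, hq2 ▸ hc, hc1⟩
  have := T.not_q
  rw [hq2] at this
  exact Nat.not_even_iff_odd.1 fun h => this h.two_dvd

theorem exists_minus_two (he : e = 2) (hδ : δ = -1) :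
    ∃ M, X = {CfsgLib.Char.principalIrr, M} ∧ CfsgLib.Char.principalIrr ≠ M ∧ σ M = -1 ∧
      deg M = e * t := by
  obtain ⟨M, hM⟩ := Finset.card_eq_one.1 (show (X.erase CfsgLib.Char.principalIrr).card = 1 by
    rw [Finset.card_erase_of_mem T.principal, T.blk.card_X, he])
  have hne : CfsgLib.Char.principalIrr ≠ M := fun h => by
    have : M ∈ X.erase CfsgLib.Char.principalIrr := hM ▸ Finset.mem_singleton_self M
    exact (Finset.mem_erase.1 this).1 h.symm
  have hX : X = {CfsgLib.Char.principalIrr, M} := by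
    rw [← Finset.insert_erase T.principal, hM]
  refine ⟨M, hX, hne, ?_⟩
  have hr := rel_one T.num T.blk
  have hfe : f₀ + e = p := (T.minus_facts hδ).2.2.1
  have h1 := T.one_lt
  have hM1 := deg_pos M
  have het := T.num.het
  rw [hX, Finset.sum_pair hne, σ_principal T.num T.blk T.principal, deg_principal, hδ] at hr
  rcases T.blk.sign M (hX ▸ Finset.mem_insert_of_mem (Finset.mem_singleton_self M)) with hs | hs
  · exfalso; rw [hs] at hr; omega
  · refine ⟨hs, ?_⟩
    rw [hs] at hr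
    omega

theorem pairs_z_formula (he : e = 2) (hδ : δ = -1) {v : G} (hv : ¬ p ∣ orderOf v)
    {M : IrrCharacter G} (hX : X = {CfsgLib.Char.principalIrr, M})
    (hne : CfsgLib.Char.principalIrr ≠ M) (hs : σ M = -1) (hd : deg M = e * t)
    {θ : IrrCharacter G} (hθ : θ ∈ Y) :
    (M : G → ℂ) v = 1 + (θ : G → ℂ) v ∧
      (Nat.card (Pairs v z) : ℂ) * (Nat.card (Subgroup.centralizer ({v} : Set G)) : ℂ) ^ 2 =
        (Nat.card G : ℂ) * (1 - (M : G → ℂ) v * (M : G → ℂ) v / ((p : ℂ) - 1) +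
          (θ : G → ℂ) v * (θ : G → ℂ) v / ((p : ℂ) - 2)) := by
  have hfe : f₀ + e = p := (T.minus_facts hδ).2.2.1
  have h1 := T.blk.rel θ hθ v hv
  rw [hX, Finset.sum_pair hne, σ_principal T.num T.blk T.principal,
    CfsgLib.Char.principalIrr_apply, hs, hδ] at h1
  push_cast at h1
  have hM : (M : G → ℂ) v = 1 + (θ : G → ℂ) v := by linear_combination h1
  refine ⟨hM, ?_⟩
  rw [card_pairs_formula, sum_conj_z_blk T.num T.blk _
    ((θ : G → ℂ) v * (θ : G → ℂ) v / ((p : ℂ) - 2)) (fun θ' hθ' => ?_), hX, Finset.sum_pair hne,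
    σ_principal T.num T.blk T.principal, hs, hδ, CfsgLib.Char.principalIrr_apply,
    CfsgLib.Char.principalIrr_apply, ← deg_cast M, hd]
  · have het : (((e * t : ℕ)) : ℂ) = (p : ℂ) - 1 := by
      rw [eq_sub_iff_add_eq, ← Nat.cast_one, ← Nat.cast_add, T.num.het]
    rw [het]
    push_cast
    ring
  · rw [T.blk.eq_Y θ' hθ' θ hθ v hv, ← deg_cast θ', T.blk.deg_Y θ' hθ']
    congr 1
    rw [eq_sub_iff_add_eq, ← Nat.cast_ofNat, ← Nat.cast_add, ← he, hfe]

/-- In the case `e = 2` the group order is `p (p - 1) (p - 2)`. -/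
theorem two_case [IsSimpleGroup G] (he : e = 2) (hδ : δ = -1) :
    p = 2 ^ b + 1 ∧ 2 * Nat.card (Sylow p G) < (p + 1) * (p + 2) := by
  obtain ⟨hq2, hg, hfe, hodd, h2e, -, -, -⟩ := T.minus_facts hδ
  obtain ⟨M, hX, hne, hs, hd⟩ := T.exists_minus_two he hδ
  obtain ⟨θ, hθ, hθd, hθne⟩ := T.exists_theta
  have hp := T.num.ctx.prime
  have hp0 : (p : ℂ) ≠ 0 := Nat.cast_ne_zero.2 hp.ne_zero
  have hf0 : ((p : ℂ) - 2) = (f₀ : ℂ) := by
    rw [sub_eq_iff_eq_add, ← Nat.cast_ofNat, ← Nat.cast_add, ← he, hfe]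
  have hf0' : ((p : ℂ) - 2) ≠ 0 := hf0 ▸ Nat.cast_ne_zero.2 (by have := T.one_lt; omega)
  have hp1 : ((p : ℂ) - 1) ≠ 0 := by
    rw [sub_ne_zero, ← Nat.cast_one, Ne, Nat.cast_inj]
    exact hp.ne_one
  have hcM := T.card_M
  rw [hq2, hg, he] at hcM
  have hG : Nat.card G = p * (2 ^ b * f₀) := by rw [T.num.card_eq, ← hcM, he]
  have hyo : orderOf y = 2 := by rw [T.num.orderOf_y, he]
  have hy : y ∈ Subgroup.zpowers y := Subgroup.mem_zpowers y
  have hy1 : y ≠ 1 := fun h => by rw [h, orderOf_one] at hyo; norm_num at hyo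
  -- all involutions are conjugate
  have hall : ∀ v : G, orderOf v = 2 → IsConj y v := by
    intro v hv
    rcases isEmpty_or_nonempty (Pairs v z) with hE | ⟨⟨pr⟩⟩
    swap
    · exact isConj_of_pairs T.num he hv pr
    exfalso
    have hvp : ¬ p ∣ orderOf v := fun hd2 => by
      rw [hv] at hd2
      have := Nat.le_of_dvd two_pos hd2
      omega
    obtain ⟨hMv, hf⟩ := T.pairs_z_formula he hδ hvp hX hne hs hd hθ
    rw [Nat.card_of_isEmpty, Nat.cast_zero, zero_mul, eq_comm, mul_eq_zero] at hf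
    have h2 := hf.resolve_left (Nat.cast_ne_zero.2 Nat.card_pos.ne')
    rw [hMv] at h2
    field_simp at h2
    have h3 : ((θ : G → ℂ) v - ((p : ℂ) - 2)) ^ 2 = 0 := by linear_combination h2
    have h4 : (θ : G → ℂ) v = (θ : G → ℂ) 1 := by
      rw [sub_eq_zero.1 ((pow_eq_zero_iff two_ne_zero).1 h3), hf0, ← deg_cast, hθd]
    have h5 := eq_one_of_apply θ hθne h4
    rw [h5, orderOf_one] at hv
    norm_num at hv
  -- the centralizer of `y`
  obtain ⟨hMy, hf⟩ := T.pairs_z_formula he hδ (T.num.not_dvd_orderOf hy) hX hne hs hd hθ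
  have hM0 : (M : G → ℂ) y = 0 :=
    minus_vanish T.num T.blk (hX ▸ Finset.mem_insert_of_mem (Finset.mem_singleton_self M)) hs hd hy hy1
  have hθy : (θ : G → ℂ) y = -1 := by
    rw [hM0] at hMy
    linear_combination -hMy
  rw [card_pairs_z T.num hy hyo, hM0, hθy, hG] at hf
  have hC : Nat.card (Subgroup.centralizer ({y} : Set G)) ^ 2 = 2 ^ b * (f₀ + 1) := by
    refine Nat.cast_injective (R := ℂ) (mul_left_cancel₀ hp0 ?_)
    push_cast at hf ⊢
    rw [hf, hf0]
    rw [hf0] at hf0'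
    field_simp
    ring
  -- a central involution of a Sylow subgroup
  have hb : 1 ≤ b := by
    rcases Nat.eq_zero_or_pos b with h | h
    · rw [h, pow_zero, one_mul] at hcM
      exact absurd (hcM ▸ dvd_mul_right 2 _) (fun hd2 => (Nat.not_even_iff_odd.2 hodd)
        (even_iff_two_dvd.2 hd2))
    · exact h
  haveI : Fact (Nat.Prime 2) := ⟨Nat.prime_two⟩
  let Q : Sylow 2 G := Classical.arbitrary _
  have hQd : 2 ^ b ∣ Nat.card (Q : Subgroup G) :=
    Q.pow_dvd_card_of_pow_dvd_card (hG ▸ dvd_mul_of_dvd_right (dvd_mul_right _ _) p)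
  haveI : Nontrivial ↥(Q : Subgroup G) := (Subgroup.nontrivial_iff_ne_bot _).2
    (Q.ne_bot_of_dvd_card (hG ▸ dvd_mul_of_dvd_right
      (dvd_mul_of_dvd_left (dvd_pow_self 2 (by omega)) _) p))
  haveI : Nontrivial (Subgroup.center ↥(Q : Subgroup G)) := Q.2.center_nontrivial
  have h2Z : 2 ∣ Nat.card (Subgroup.center ↥(Q : Subgroup G)) := by
    obtain ⟨j, hj⟩ := (Q.2.to_subgroup (Subgroup.center ↥(Q : Subgroup G))).exists_card_eq
    rcases Nat.eq_zero_or_pos j with h0 | h0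
    · rw [h0, pow_zero, Nat.card_eq_one_iff_unique] at hj
      haveI := hj.1
      exact absurd ‹Nontrivial (Subgroup.center ↥(Q : Subgroup G))› (not_nontrivial _)
    · exact hj ▸ dvd_pow_self 2 h0.ne'
  obtain ⟨v, hv⟩ := exists_prime_orderOf_dvd_card' (G := Subgroup.center ↥(Q : Subgroup G)) 2 h2Z
  have hv2 : orderOf (((v : (Q : Subgroup G))) : G) = 2 := by
    rw [Subgroup.orderOf_coe, Subgroup.orderOf_coe, hv]
  have hle : (Q : Subgroup G) ≤ Subgroup.centralizer ({(((v : (Q : Subgroup G))) : G)} : Set G) :=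
    fun x hx => Subgroup.mem_centralizer_singleton_iff.2
      (congrArg Subtype.val (Subgroup.mem_center_iff.1 v.2 ⟨x, hx⟩))
  obtain ⟨D, hD⟩ : 2 ^ b ∣ Nat.card (Subgroup.centralizer ({y} : Set G)) := by
    rw [← card_cent_of_isConj (hall _ hv2)]
    exact hQd.trans (Subgroup.card_dvd_of_le hle)
  have hD1 : 2 ^ b * D ^ 2 = f₀ + 1 := by
    rw [hD] at hC
    refine Nat.eq_of_mul_eq_mul_left (pow_pos two_pos b) ?_
    rw [← hC]; ring
  -- `p - 1` divides `2 ^ b`
  have hdv : f₀ + 1 ∣ 2 ^ b := by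
    have h1 : deg M ∣ p * (2 ^ b * f₀) := hG ▸ deg_dvd M
    have h2 := ((hp.coprime_iff_not_dvd.2 (T.blk.not_dvd M (Finset.mem_union_left _
      (hX ▸ Finset.mem_insert_of_mem (Finset.mem_singleton_self M))))).symm).dvd_of_dvd_mul_left h1
    rw [hd, show e * t = f₀ + 1 by have := T.num.het; omega] at h2
    exact (Nat.coprime_self_add_left.2 (Nat.coprime_one_left f₀)).dvd_of_dvd_mul_right h2
  have hD0 : D = 1 := by
    have := Nat.le_of_dvd (pow_pos two_pos b) hdv
    rcases Nat.lt_or_ge D 2 with h | h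
    · interval_cases D
      · simp at hD1
      · rfl
    · exfalso
      have h4 : 2 ^ b * 4 ≤ 2 ^ b * D ^ 2 := Nat.mul_le_mul_left _ (by nlinarith)
      have := pow_pos two_pos b (M₀ := ℕ)
      omega
  rw [hD0, one_pow, mul_one] at hD1
  refine ⟨by omega, ?_⟩
  rw [T.num.card_sylow, hcM, hD1]
  calc (f₀ + 1) * f₀ ≤ (p + 1) * f₀ := Nat.mul_le_mul_right _ (by omega)
    _ < (p + 1) * (p + 2) := Nat.mul_lt_mul_of_pos_left (by omega) (by omega)

end Tuan

end CfsgLib.BrauerTuan
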